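import Mathlib
import Groth.Agent.S0352
import Groth.Agent.Lib.Helper24.FibHom.Tfae
import Groth.Agent.Lib.Helper24.FibHom.SurjFlat
import Groth.Agent.Lib.Helper24.HomArt.Finite
import Groth.Agent.Lib.Helper24.WeilExt.Local

/-!
# Helper24 — a homomorphism of smooth group schemes with connected fibres is an isogeny iff its
fibres are finite and surjective
-/

set_option autoImplicit false
universe u

open CategoryTheory MonoidalCategory CartesianMonoidalCategory MonObj GrpObj AlgebraicGeometry Limits

namespace Groth.Agent.Lib.Helper24.Isog

open Groth.Agent.Lib.Helper24.HomogSep Groth.Agent.Lib.Helper24.NFT Groth.Agent.Lib.Helper24.HomArt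
  Groth.Agent.Lib.Helper24.FibHom

variable {S : Scheme.{u}} {G H : Over S} [GrpObj G] [GrpObj H]

/-- smooth morphisms are geometrically reduced -/
theorem geometricallyReduced_of_smooth {X Y : Scheme.{u}} (f : X ⟶ Y) [Smooth f] :
    GeometricallyReduced f := by
  refine ⟨fun K _ y Z fst snd h => ?_⟩
  haveI : Smooth snd := MorphismProperty.of_isPullback (P := @Smooth) h inferInstance
  exact Groth.Agent.Lib.Helper24.WeilExt.isReduced_of_smooth (R := K) snd

/-- the fibre map of the statement is isomorphic to the base change of `f` to the fibre -/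
theorem fibre_iff (P : MorphismProperty Scheme.{u}) [P.RespectsIso] (f : G ⟶ H) (s : S) :
    P (pullback.snd f.left (H.hom.fiberι s)) ↔ P ((Over.pullback (gs s)).map f).left := by
  have sq : IsPullback (pullback.fst G.hom (gs s)) ((Over.pullback (gs s)).map f).left f.left
      (pullback.fst H.hom (gs s)) := (isPullback_pullback_map (gs s) f).flip
  have h : sq.isoPullback.hom ≫ pullback.snd f.left (pullback.fst H.hom (gs s)) =
      ((Over.pullback (gs s)).map f).left := sq.isoPullback_hom_snd
  change P (pullback.snd f.left (pullback.fst H.hom (gs s))) ↔ _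
  rw [← h, P.cancel_left_of_respectsIso]

section fwd

variable [LocallyOfFiniteType G.hom] [QuasiCompact G.hom] [LocallyOfFiniteType H.hom]
  [QuasiSeparated H.hom] [GeometricallyConnected H.hom]

omit [GrpObj G] [GrpObj H] [LocallyOfFiniteType G.hom] [LocallyOfFiniteType H.hom]
  [GeometricallyConnected H.hom] in
theorem quasiCompact_hom (f : G ⟶ H) : QuasiCompact f.left := by
  haveI : QuasiCompact (f.left ≫ H.hom) := by rw [Over.w f]; infer_instance
  exact QuasiCompact.of_comp f.left H.hom

theorem fibre_finite_surjective (f : G ⟶ H) [IsMonHom f] (hfl : Flat f.left)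
    (hqf : LocallyQuasiFinite f.left) (hfp : LocallyOfFinitePresentation f.left) (s : S) :
    IsFinite ((Over.pullback (gs s)).map f).left ∧ Surjective ((Over.pullback (gs s)).map f).left := by
  let us : fib G s ⟶ fib H s := (Over.pullback (gs s)).map f
  haveI : IsMonHom us := inferInstance
  have sq : IsPullback (pullback.fst G.hom (gs s)) us.left f.left
      (pullback.fst H.hom (gs s)) := (isPullback_pullback_map (gs s) f).flip
  haveI := quasiCompact_hom f
  haveI : Flat us.left := MorphismProperty.of_isPullback (P := @Flat) sq hfl
  haveI : LocallyQuasiFinite us.left :=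
    MorphismProperty.of_isPullback (P := @LocallyQuasiFinite) sq hqf
  haveI : LocallyOfFinitePresentation us.left :=
    MorphismProperty.of_isPullback (P := @LocallyOfFinitePresentation) sq hfp
  haveI : QuasiCompact us.left :=
    MorphismProperty.of_isPullback (P := @QuasiCompact) sq inferInstance
  haveI : LocallyOfFiniteType (fib G s).hom :=
    inferInstanceAs (LocallyOfFiniteType (pullback.snd G.hom (gs s)))
  haveI : LocallyOfFiniteType (fib H s).hom :=
    inferInstanceAs (LocallyOfFiniteType (pullback.snd H.hom (gs s)))
  constructor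
  · -- finiteness
    rw [isFinite_hom_iff_artinian (resκ s) (fib G s) (fib H s) us]
    haveI : IsLocallyArtinian (Spec (CommRingCat.of (resκ s))) :=
      Scheme.isLocallyArtinianScheme_Spec.2 (inferInstanceAs (IsArtinianRing (resκ s)))
    haveI : IsLocallyArtinian (𝟙_ (Over (Spec (CommRingCat.of (resκ s))))).left :=
      inferInstanceAs (IsLocallyArtinian (Spec (CommRingCat.of (resκ s))))
    haveI : LocallyQuasiFinite (pullback.snd us.left η[fib H s].left) := inferInstance
    haveI : IsLocallyArtinian (pullback us.left η[fib H s].left) :=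
      IsLocallyArtinian.of_locallyQuasiFinite (pullback.snd us.left η[fib H s].left)
    infer_instance
  · -- surjectivity
    have hopen : IsOpen (Set.range us.left) := us.left.isOpenMap.isOpen_range
    have hclosed : IsClosed (Set.range us.left) :=
      Groth.Agent.S0352.result (resκ s) (fib G s) (fib H s) us hopen
    haveI : ConnectedSpace ↥(fib H s).left :=
      inferInstanceAs (ConnectedSpace ↥(H.hom.fiber s))
    have hne : (Set.range us.left).Nonempty := by
      have hne : Nonempty ↥(𝟙_ (Over (Spec (CommRingCat.of (resκ s))))).left :=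
        inferInstanceAs (Nonempty (PrimeSpectrum (resκ s)))
      obtain ⟨pt⟩ := hne
      exact ⟨_, ⟨η[fib G s].left pt, rfl⟩⟩
    have huniv : Set.range us.left = Set.univ := IsClopen.eq_univ ⟨hclosed, hopen⟩ hne
    exact ⟨fun y => by
      have : y ∈ Set.range us.left := huniv ▸ Set.mem_univ y
      exact this⟩

end fwd

section bwd

variable [Smooth G.hom] [Smooth H.hom]

theorem surjective_of_fibres (f : G ⟶ H)
    (h : ∀ s : S, Surjective ((Over.pullback (gs s)).map f).left) : Surjective f.left := by
  refine ⟨fun y => ?_⟩
  set s : S := H.hom y with hs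
  haveI := h s
  let us : fib G s ⟶ fib H s := (Over.pullback (gs s)).map f
  have sq : us.left ≫ pullback.fst H.hom (gs s) = pullback.fst G.hom (gs s) ≫ f.left :=
    (isPullback_pullback_map (gs s) f).w
  obtain ⟨z, hz⟩ := us.left.surjective (H.hom.asFiber y)
  refine ⟨pullback.fst G.hom (gs s) z, ?_⟩
  rw [← Scheme.Hom.comp_apply, ← sq, Scheme.Hom.comp_apply, hz]
  exact H.hom.fiberι_asFiber y

theorem isogeny_of_fibres (f : G ⟶ H) [IsMonHom f]
    (h : ∀ s : S, IsFinite ((Over.pullback (gs s)).map f).left ∧
      Surjective ((Over.pullback (gs s)).map f).left) :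
    Flat f.left ∧ LocallyQuasiFinite f.left ∧ LocallyOfFinitePresentation f.left := by
  haveI : Surjective f.left := surjective_of_fibres f fun s => (h s).2
  haveI : GeometricallyReduced H.hom := geometricallyReduced_of_smooth H.hom
  have hflat : Flat f.left := (flat_of_surjective f).1
  have hfp : LocallyOfFinitePresentation f.left :=
    Groth.Agent.Lib.Helper4.CentralizerClosed.lfp_of_comp f.left H.hom
      (by rw [Over.w f]; infer_instance) inferInstance
  haveI := hfp
  refine ⟨hflat, ?_, hfp⟩
  have hG : ∀ s : S, LocallyOfFiniteType (G.hom.fiberToSpecResidueField s) :=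
    fun s => inferInstance
  rw [(tfae_lqf f hG (kerι f) (isKernel_kerι f)).1]
  intro s
  haveI := (h s).1
  infer_instance

end bwd

end Groth.Agent.Lib.Helper24.Isog
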